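import Groth.Agent.AmpleNear.LocTower
import Groth.Agent.AmpleStage.Basic
import Groth.Agent.AmpleDesc.Basic
import Groth.Agent.W7Adic.Ample

/-!
An invertible module which is ample on a fibre of a proper morphism is ample over a neighbourhood of the point.
-/

set_option autoImplicit false
set_option backward.isDefEq.respectTransparency false
set_option backward.isDefEq.respectTransparency.types false
set_option linter.style.haveILetI false
set_option maxHeartbeats 1000000

universe u

open CategoryTheory CategoryTheory.Limits AlgebraicGeometry TopologicalSpace IsLocalRing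

noncomputable section

namespace Groth.Agent.AmpleNear

variable {X Y : Scheme.{u}} (f : X ⟶ Y) {L : X.Modules}

/-- Ampleness over a point spreads to the closed fibre of a base change along a field. -/
theorem isAmple_of_fiber (hL : PicF.IsInvertible L) {y : Y} (hy : CohB1.IsAmple ((Scheme.Modules.pullback (f.fiberι y)).obj L))
    (K : Type u) [Field K] (h : Spec (CommRingCat.of K) ⟶ Y) (hh : h (closedPoint K) = y)
    {T : Scheme.{u}} (a : T ⟶ X) (b : T ⟶ Spec (CommRingCat.of K)) (sq : IsPullback a b f h) :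
    CohB1.IsAmple ((Scheme.Modules.pullback a).obj L) := by
  obtain ⟨⟨z, φ⟩, rfl⟩ := (Scheme.SpecToEquivOfField K Y).symm.surjective h
  have hz : z = y := by
    rw [← hh]
    exact (Scheme.fromSpecResidueField_apply z _).symm
  subst hz
  have hw : a ≫ f = (b ≫ Spec.map φ) ≫ Y.fromSpecResidueField z := by rw [Category.assoc]; exact sq.w
  let l : T ⟶ f.fiber z := pullback.lift a (b ≫ Spec.map φ) hw
  have hl : IsPullback l b (f.fiberToSpecResidueField z) (Spec.map φ) :=
    IsPullback.of_right (by simpa [l, Scheme.Hom.fiberι] using sq) (pullback.lift_snd _ _ _)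
      (IsPullback.of_hasPullback f (Y.fromSpecResidueField z))
  haveI : IsAffineHom l := MorphismProperty.of_isPullback (P := @IsAffineHom) hl.flip inferInstance
  exact TMul.isAmple_congr ((ModDesc.trIso l (f.fiberι z) (pullback.lift_fst _ _ _)).app L)
    (TMul.isAmple_pullback_of_isAffineHom l hy)

/-- Over a noetherian local base, ampleness on the closed fibre gives ampleness. -/
theorem isAmple_of_local [IsProper f] (hL : PicF.IsInvertible L) {y : Y}
    (hy : CohB1.IsAmple ((Scheme.Modules.pullback (f.fiberι y)).obj L))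
    (R : Type u) [CommRing R] [IsLocalRing R] [IsNoetherianRing R] (r : Spec (CommRingCat.of R) ⟶ Y)
    (hr : r (closedPoint R) = y) :
    CohB1.IsAmple ((Scheme.Modules.pullback (pullback.fst f r)).obj L) := by
  let C := AdicCompletion (maximalIdeal R) R
  haveI : IsNoetherianRing C := ResExt.isNoetherianRing_adicCompletion _ (IsNoetherian.noetherian _)
  let I : Ideal C := (maximalIdeal R).map (algebraMap R C)
  haveI : IsAdicComplete I C := AdicCompletion.isAdicComplete_self _ (IsNoetherian.noetherian _)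
  haveI hloc : IsLocalHom (algebraMap R C) :=
    ((IsLocalRing.local_hom_TFAE _).out 0 2).2 (AdicCompletion.maximalIdeal_eq_map (R := R)).ge
  haveI : Module.FaithfullyFlat R C := Module.FaithfullyFlat.of_flat_of_isLocalHom
  let c : Spec (CommRingCat.of C) ⟶ Spec (CommRingCat.of R) := Spec.map (CommRingCat.ofHom (algebraMap R C))
  haveI : Flat c := (HasRingHomProperty.Spec_iff (P := @Flat)).2
    (RingHom.flat_algebraMap_iff.2 inferInstance)
  haveI : Surjective c := ⟨fun q => PrimeSpectrum.comap_surjective_of_faithfullyFlat (B := C) q⟩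
  let p₁ := pullback.fst (pullback.snd f r) c
  let fC := pullback.snd (pullback.snd f r) c
  haveI : IsProper fC := inferInstanceAs (IsProper (pullback.snd _ _))
  have H : IsPullback p₁ fC (pullback.snd f r) c := IsPullback.of_hasPullback _ _
  let M := (Scheme.Modules.pullback (pullback.fst f r)).obj L
  refine AmpleDesc.isAmple_of_pullback H (PicLoc.isInvertible_pullback _ hL) ?_
  refine W7Adic.isAmple_of_closedFibre I fC (PicLoc.isInvertible_pullback _ (PicLoc.isInvertible_pullback _ hL)) ?_
  have hI : (I ^ (0 + 1)).IsMaximal := by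
    rw [pow_one, show I = maximalIdeal C from AdicCompletion.maximalIdeal_eq_map.symm]
    infer_instance
  letI : Field (C ⧸ I ^ (0 + 1)) := @Ideal.Quotient.field _ _ _ hI
  let t := CohB1.thickι fC I 0
  have hsq : IsPullback (t ≫ p₁ ≫ pullback.fst f r) (CohB1.thickToBase fC I 0) f
      (CohB1.specQuot I 0 ≫ c ≫ r) :=
    (IsPullback.of_hasPullback fC (CohB1.specQuot I 0)).paste_horiz (H.paste_horiz (IsPullback.of_hasPullback f r))
  have hpt : (CohB1.specQuot I 0 ≫ c ≫ r) (closedPoint (C ⧸ I ^ (0 + 1))) = y := by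
    rw [← hr, Scheme.Hom.comp_apply, Scheme.Hom.comp_apply]
    congr 1
    refine PrimeSpectrum.ext ?_
    have h1 : (CohB1.specQuot I 0 (closedPoint (C ⧸ I ^ (0 + 1)))).asIdeal = maximalIdeal C := by
      refine (IsLocalRing.eq_maximalIdeal ?_)
      exact Ideal.comap_isMaximal_of_surjective _ Ideal.Quotient.mk_surjective
    change (CohB1.specQuot I 0 (closedPoint (C ⧸ I ^ (0 + 1)))).asIdeal.comap (algebraMap R C) = maximalIdeal R
    rw [h1]
    exact ((IsLocalRing.local_hom_TFAE _).out 0 4).1 hloc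
  exact TMul.isAmple_congr (((ModDesc.trIso t (p₁ ≫ pullback.fst f r) rfl).app L).symm ≪≫
      (Scheme.Modules.pullback t).mapIso ((ModDesc.trIso p₁ (pullback.fst f r) rfl).app L).symm)
    (isAmple_of_fiber f hL hy _ _ hpt _ _ hsq)

/-- **Ampleness on a fibre spreads to a neighbourhood.** -/
theorem exists_nhd [IsNoetherian Y] [IsProper f] (hL : PicF.IsInvertible L) (y : Y)
    (hy : CohB1.IsAmple ((Scheme.Modules.pullback (f.fiberι y)).obj L)) :
    ∃ V : Y.Opens, y ∈ V ∧ ∀ W : Y.Opens, W ≤ V → IsAffineOpen W → CohB1.IsAmple (L.restrict (f ⁻¹ᵁ W).ι) := by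
  obtain ⟨V₀, hV₀, hyV₀, -⟩ := exists_isAffineOpen_mem_and_subset (X := Y) (x := y) (U := ⊤) trivial
  haveI : IsNoetherianRing Γ(Y, V₀) := IsLocallyNoetherian.component_noetherian ⟨V₀, hV₀⟩
  let 𝔭 := hV₀.primeIdealOf ⟨y, hyV₀⟩
  let N : Submonoid Γ(Y, V₀) := 𝔭.asIdeal.primeCompl
  haveI : IsLocalRing (Localization N) := inferInstanceAs (IsLocalRing (Localization.AtPrime 𝔭.asIdeal))
  haveI : IsNoetherianRing (Localization N) := IsLocalization.isNoetherianRing N _ inferInstance
  let toY : ∀ S : Submonoid Γ(Y, V₀), Spec (CommRingCat.of (Localization S)) ⟶ Y := fun S =>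
    Spec.map (CommRingCat.ofHom (algebraMap Γ(Y, V₀) (Localization S))) ≫ hV₀.fromSpec
  let r := toY N
  have hr : r (closedPoint (Localization N)) = y := by
    change (Spec.map _ ≫ hV₀.fromSpec) _ = y
    refine Eq.trans ?_ (hV₀.fromSpec_primeIdealOf ⟨y, hyV₀⟩)
    refine congrArg hV₀.fromSpec ?_
    refine PrimeSpectrum.ext ?_
    exact IsLocalization.AtPrime.under_maximalIdeal (Localization N) 𝔭.asIdeal
  have hamp := isAmple_of_local f hL hy (Localization N) r hr
  let j₀ : (FgMon N)ᵒᵖ := Opposite.op ⟨⊥, bot_le, ⟨∅, by simp⟩⟩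
  haveI : IsCofiltered (FgMon N)ᵒᵖ := isCofiltered_op_of_isFiltered _
  have hcomm : ∀ {S T : Submonoid Γ(Y, V₀)} (h : S ≤ T),
      Spec.map (CommRingCat.ofHom (locMap h)) ≫ toY S = toY T := fun {S T} h => by
    simp only [toY, ← Category.assoc, ← Spec.map_comp]
    congr 2
    ext a
    exact locMap_algebraMap h a
  let b₀ : (locDiagram N).obj j₀ ⟶ Y := toY j₀.unop.1
  let qX : pullback f r ⟶ pullback f b₀ := pullback.lift (pullback.fst f r)
    (pullback.snd f r ≫ (locCone N).π.app j₀) (by
      rw [Category.assoc, show (locCone N).π.app j₀ ≫ b₀ = r from hcomm _, pullback.condition])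
  have hY : IsPullback ((locCone N).π.app j₀) (𝟙 (locCone N).pt) (𝟙 ((locDiagram N).obj j₀)) ((locCone N).π.app j₀) :=
    IsPullback.id_vert _
  have hX : IsPullback qX (pullback.snd f r) (pullback.snd f b₀) ((locCone N).π.app j₀) :=
    IsPullback.of_right (by
      simp only [qX, pullback.lift_fst, show (locCone N).π.app j₀ ≫ b₀ = r from hcomm _]
      exact IsPullback.of_hasPullback f r) (pullback.lift_snd _ _ _) (IsPullback.of_hasPullback f b₀)
  haveI : CompactSpace ((locDiagram N).obj j₀) := inferInstanceAs (CompactSpace (Spec _))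
  obtain ⟨l, Xj, Yj, fj, gj, pY, pX, hYj, hXj, hj⟩ := AmpleStage.exists_isRelAmple_stage (locDiagram N) (locCone N)
    (locIsLimit N) (pullback.snd f b₀) (𝟙 _) hY hX (PicLoc.isInvertible_pullback (pullback.fst f b₀) hL)
    ((TMul.isRelAmple_iff_isAmple (f := pullback.snd f r)).2
      (TMul.isAmple_congr ((ModDesc.trIso qX (pullback.fst f b₀) (pullback.lift_fst _ _ _)).app L).symm hamp))
  -- the stage is an open subscheme of the base
  haveI : IsIso gj := hYj.isIso_snd_of_isIso
  let u : Yj ⟶ Y := pY ≫ b₀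
  have hu : u = gj ≫ toY l.left.unop.1 := by
    have h1 : pY = gj ≫ (locDiagram N).map l.hom := by simpa using hYj.w
    rw [show u = pY ≫ b₀ from rfl, h1, Category.assoc]
    exact congrArg (gj ≫ ·) (hcomm (leOfHom l.hom.unop))
  haveI : IsOpenImmersion u := by
    obtain ⟨a, -, ha⟩ := exists_away N l.left.unop
    haveI : IsOpenImmersion (Spec.map (CommRingCat.ofHom (algebraMap Γ(Y, V₀) (Localization l.left.unop.1)))) :=
      IsOpenImmersion.of_isLocalization a
    rw [hu]; infer_instance
  refine ⟨u.opensRange, ?_, fun W hW hWa => ?_⟩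
  · let w : Spec (CommRingCat.of (Localization N)) ⟶ Yj := (locCone N).π.app l.left ≫ inv gj
    have hw : w ≫ u = r := by
      rw [hu]; simp only [w, Category.assoc, IsIso.inv_hom_id_assoc]
      exact hcomm _
    exact ⟨w (closedPoint (Localization N)), by rw [← Scheme.Hom.comp_apply, hw, hr]⟩
  let v : (W : Scheme.{u}) ⟶ Yj := IsOpenImmersion.lift u W.ι (by rw [Scheme.Opens.range_ι]; exact hW)
  have hv : v ≫ u = W.ι := IsOpenImmersion.lift_fac _ _ _
  have hbig : IsPullback (pX ≫ pullback.fst f b₀) fj f u := hXj.paste_horiz (IsPullback.of_hasPullback f b₀)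
  have hW' : IsPullback (f ⁻¹ᵁ W).ι (f ∣_ W) f (v ≫ u) := hv ▸ (isPullback_morphismRestrict f W).flip
  let e : (↑(f ⁻¹ᵁ W) : Scheme.{u}) ⟶ Xj := hbig.lift (f ⁻¹ᵁ W).ι ((f ∣_ W) ≫ v) (by rw [Category.assoc]; exact hW'.w)
  have he : IsPullback e (f ∣_ W) fj v :=
    IsPullback.of_right (by rw [hbig.lift_fst]; exact hW') (hbig.lift_snd _ _ _) hbig
  haveI : QuasiCompact fj := hj.1
  haveI : IsAffine (W : Scheme.{u}) := hWa
  have h2 := TMul.isRelAmple_iff_isAmple.1 (AmpleStage.isRelAmple_of_isPullback he hj)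
  refine TMul.isAmple_congr ?_ h2
  exact (Scheme.Modules.pullback e).mapIso ((ModDesc.trIso pX (pullback.fst f b₀) rfl).app L) ≪≫
    (ModDesc.trIso e (pX ≫ pullback.fst f b₀) (hbig.lift_fst _ _ _)).app L ≪≫
    ((Scheme.Modules.restrictFunctorIsoPullback (f ⁻¹ᵁ W).ι).app L).symm

end Groth.Agent.AmpleNear
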