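import Mathlib

/-!
The spectrum of a localization as the limit of the spectra of the localizations at finitely generated submonoids.
-/

set_option autoImplicit false
set_option backward.isDefEq.respectTransparency false
set_option backward.isDefEq.respectTransparency.types false
universe u
open CategoryTheory CategoryTheory.Limits AlgebraicGeometry

noncomputable section

namespace Groth.Agent.AmpleNear

variable {A : Type u} [CommRing A] (N : Submonoid A)

/-- finitely generated submonoids below `N` -/
abbrev FgMon : Type u := {S : Submonoid A // S ≤ N ∧ S.FG}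

instance : IsFiltered (FgMon N) := by
  have : Nonempty (FgMon N) := ⟨⟨⊥, bot_le, ⟨∅, by simp⟩⟩⟩
  have : IsDirectedOrder (FgMon N) :=
    ⟨fun B C => ⟨⟨B.1 ⊔ C.1, sup_le B.2.1 C.2.1, B.2.2.sup C.2.2⟩,
      (le_sup_left : B.1 ≤ B.1 ⊔ C.1), (le_sup_right : C.1 ≤ B.1 ⊔ C.1)⟩⟩
  infer_instance

/-- transition maps -/
def locMap {S T : Submonoid A} (h : S ≤ T) : Localization S →+* Localization T :=
  IsLocalization.lift (M := S) (g := algebraMap A (Localization T))
    fun s => IsLocalization.map_units (Localization T) (⟨s.1, h s.2⟩ : T)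

@[simp] lemma locMap_algebraMap {S T : Submonoid A} (h : S ≤ T) (a : A) :
    locMap h (algebraMap A (Localization S) a) = algebraMap A (Localization T) a :=
  IsLocalization.lift_eq _ _

lemma locMap_locMap {S T U : Submonoid A} (h : S ≤ T) (h' : T ≤ U) :
    (locMap h').comp (locMap h) = locMap (h.trans h') :=
  IsLocalization.ringHom_ext S (by ext a; simp)

/-- the system of localizations -/
def locFunctor' : FgMon N ⥤ CommRingCat.{u} where
  obj S := CommRingCat.of (Localization S.1)
  map h := CommRingCat.ofHom (locMap (leOfHom h : _ ≤ _))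
  map_id S := CommRingCat.hom_ext (IsLocalization.ringHom_ext S.1 (by ext a; simp))
  map_comp {X Y Z} h h' := CommRingCat.hom_ext (locMap_locMap (leOfHom h : X.1 ≤ Y.1) (leOfHom h' : Y.1 ≤ Z.1)).symm

/-- its cocone -/
def locCocone : Cocone (locFunctor' N) where
  pt := CommRingCat.of (Localization N)
  ι :=
    { app := fun S => CommRingCat.ofHom (locMap S.2.1)
      naturality := fun S T h => CommRingCat.hom_ext (by
        simpa [locFunctor'] using locMap_locMap (leOfHom h : S.1 ≤ T.1) T.2.1) }

/-- the system has colimit the localization at `N` -/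
def locIsColimit : IsColimit (locCocone N) := by
  haveI : PreservesColimit (locFunctor' N) (forget CommRingCat.{u}) :=
    (inferInstance : PreservesFilteredColimits (forget CommRingCat.{u})).preserves_filtered_colimits _ |>.preservesColimit
  haveI : ReflectsColimit (locFunctor' N) (forget CommRingCat.{u}) := reflectsColimit_of_reflectsIsomorphisms _ _
  refine isColimitOfReflects (forget CommRingCat.{u}) (Types.FilteredColimit.isColimitOf _ _ ?_ ?_)
  · intro x
    obtain ⟨a, s, rfl⟩ := IsLocalization.exists_mk'_eq N (show Localization N from x)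
    let S : FgMon N := ⟨Submonoid.powers s.1, Submonoid.powers_le.2 s.2, ⟨{s.1}, by simp [Submonoid.powers_eq_closure]⟩⟩
    refine ⟨S, IsLocalization.mk' (Localization S.1) a ⟨s.1, Submonoid.mem_powers _⟩, ?_⟩
    change IsLocalization.mk' (Localization N) a s = locMap S.2.1 _
    rw [eq_comm, locMap, IsLocalization.lift_mk'_spec, mul_comm]
    exact (IsLocalization.mk'_spec _ a s).symm
  · intro B C x y h
    obtain ⟨a, s, rfl⟩ := IsLocalization.exists_mk'_eq B.1 (show Localization B.1 from x)
    obtain ⟨b, t, rfl⟩ := IsLocalization.exists_mk'_eq C.1 (show Localization C.1 from y)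
    change locMap B.2.1 _ = locMap C.2.1 _ at h
    have key : ∀ {S T : Submonoid A} (hST : S ≤ T) (a : A) (s : S),
        locMap hST (IsLocalization.mk' (Localization S) a s) = IsLocalization.mk' (Localization T) a ⟨s.1, hST s.2⟩ := by
      intro S T hST a s
      rw [locMap, IsLocalization.lift_mk'_spec]
      exact (IsLocalization.mk'_spec' _ a (⟨s.1, hST s.2⟩ : T)).symm
    rw [key, key, IsLocalization.mk'_eq_iff_eq', IsLocalization.eq_iff_exists N] at h
    obtain ⟨c, hc⟩ := h
    let E : FgMon N := ⟨B.1 ⊔ C.1 ⊔ Submonoid.powers c.1, sup_le (sup_le B.2.1 C.2.1) (Submonoid.powers_le.2 c.2),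
      (B.2.2.sup C.2.2).sup ⟨{c.1}, by simp [Submonoid.powers_eq_closure]⟩⟩
    have hB : B.1 ≤ E.1 := le_sup_left.trans le_sup_left
    have hC : C.1 ≤ E.1 := le_sup_right.trans le_sup_left
    refine ⟨E, homOfLE hB, homOfLE hC, ?_⟩
    change locMap hB _ = locMap hC _
    rw [key, key, IsLocalization.mk'_eq_iff_eq', IsLocalization.eq_iff_exists E.1]
    exact ⟨⟨c.1, (le_sup_right : Submonoid.powers c.1 ≤ E.1) (Submonoid.mem_powers _)⟩, hc⟩

/-- the system of schemes -/
def locDiagram : (FgMon N)ᵒᵖ ⥤ Scheme.{u} := (locFunctor' N).op ⋙ Scheme.Spec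

/-- its cone -/
def locCone : Cone (locDiagram N) := Scheme.Spec.mapCone (locCocone N).op

/-- the cone is a limit -/
def locIsLimit : IsLimit (locCone N) := isLimitOfPreserves Scheme.Spec (locIsColimit N).op

instance {i j : (FgMon N)ᵒᵖ} (f : i ⟶ j) : IsAffineHom ((locDiagram N).map f) :=
  inferInstanceAs (IsAffineHom (Spec.map _))

instance (i : (FgMon N)ᵒᵖ) : IsAffine ((locDiagram N).obj i) := inferInstanceAs (IsAffine (Spec _))

/-- a finitely generated submonoid gives the localization at one element -/
theorem exists_away (S : FgMon N) : ∃ a ∈ N, IsLocalization.Away a (Localization S.1) := by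
  obtain ⟨t, ht⟩ := S.2.2
  have hmem : ∏ x ∈ t, x ∈ S.1 := prod_mem fun x hx => ht ▸ Submonoid.subset_closure hx
  refine ⟨_, S.2.1 hmem, ?_⟩
  refine (IsLocalization.iff_of_le_of_exists_dvd (M := Submonoid.powers (∏ x ∈ t, x)) (S := Localization S.1) S.1
    (Submonoid.powers_le.2 hmem) fun n hn => ?_).2 inferInstance
  rw [← ht] at hn
  induction hn using Submonoid.closure_induction with
  | mem x hx => exact ⟨_, Submonoid.mem_powers _, Finset.dvd_prod_of_mem (fun y => y) hx⟩
  | one => exact ⟨1, one_mem _, dvd_rfl⟩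
  | mul x y _ _ hx hy =>
    obtain ⟨m, hm, hxm⟩ := hx
    obtain ⟨m', hm', hym⟩ := hy
    exact ⟨m * m', mul_mem hm hm', mul_dvd_mul hxm hym⟩

end Groth.Agent.AmpleNear
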