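import Groth.Agent.AmpleNear.Basic
import Groth.Agent.W7Hull.RelVanish
import Groth.Agent.CohFinite.Proper

/-!
Higher direct images of high twists vanish near a point with ample fibre.
-/

set_option autoImplicit false
set_option backward.isDefEq.respectTransparency false
set_option backward.isDefEq.respectTransparency.types false

universe u

open CategoryTheory CategoryTheory.Limits AlgebraicGeometry TopologicalSpace Opposite
open Groth.Agent.W7Hull

noncomputable section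

namespace Groth.Agent.AmpleNear

variable {X Y : Scheme.{u}} (f : X ⟶ Y)

/-- The stalk of `R^q f_*` vanishes where the cohomology over an affine neighbourhood does. -/
theorem isZero_stalk_rpushAb [QuasiCompact f] [QuasiSeparated f] (M : X.Modules) (hM : Coh.IsQCoh M) (q : ℕ)
    {y : Y} {W : Y.Opens} (hW : IsAffineOpen W) (hyW : y ∈ W)
    (h : Subsingleton (CohSite.HU (Coh.toAb M) q (f ⁻¹ᵁ W))) :
    IsZero (TopCat.Presheaf.stalk ((Coh.RpushAb f q).obj (Coh.toAb M)).obj y) := by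
  obtain ⟨N, hN, ⟨e⟩⟩ := RPushQC.exists_qcoh_iso_rpushAb f M hM q
  let eP := (sheafToPresheaf _ _).mapIso e
  suffices hs : ∀ z : ↑(TopCat.Presheaf.stalk ((Coh.RpushAb f q).obj (Coh.toAb M)).obj y), z = 0 by
    haveI := subsingleton_of_forall_eq _ hs
    exact AddCommGrpCat.isZero_of_subsingleton _
  intro z
  obtain ⟨V, hyV, s, rfl⟩ := TopCat.Presheaf.germ_exist _ z
  obtain ⟨g, hg, hyg⟩ := hW.exists_basicOpen_le (V := V) ⟨y, hyV⟩ hyW
  obtain ⟨b⟩ := hu_equiv_sections f M hM hW q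
  haveI : Subsingleton Γ(N, W) :=
    ((eP.app (op W)).addCommGroupIsoToAddEquiv.trans b.symm).toEquiv.subsingleton
  haveI : Subsingleton Γ(N, Y.basicOpen g) := ⟨fun t t' => by
    have hz : ∀ t : Γ(N, Y.basicOpen g), t = 0 := fun t => by
      obtain ⟨n, s', hs'⟩ := (QC.isLoc_of_isQCoh hW (hM := hN)).exists_extend g t
      rw [Subsingleton.elim s' 0, map_zero] at hs'
      have hu : IsUnit (QC.resO Y (Y.basicOpen_le g) g) := Y.toRingedSpace.isUnit_res_basicOpen g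
      exact (hu.pow n).smul_eq_zero.1 hs'.symm
    exact (hz _).trans (hz _).symm⟩
  haveI : Subsingleton (((Coh.RpushAb f q).obj (Coh.toAb M)).obj.obj (op (Y.basicOpen g))) :=
    @Equiv.subsingleton _ _ (eP.app (op (Y.basicOpen g))).addCommGroupIsoToAddEquiv.symm.toEquiv ‹Subsingleton Γ(N, Y.basicOpen g)›
  rw [← TopCat.Presheaf.germ_res_apply _ (homOfLE hg) y hyg s]
  refine (congrArg _ (Subsingleton.elim _ 0)).trans (map_zero _)

/-- **Vanishing near a point with ample fibre.** -/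
theorem exists_vanish [IsNoetherian Y] [IsProper f] {L : X.Modules} (hL : PicF.IsInvertible L) (M : X.Modules)
    (hM : Coh.IsCoh M) (y : Y) (hy : CohB1.IsAmple ((Scheme.Modules.pullback (f.fiberι y)).obj L)) :
    ∃ d₀ : ℕ, ∀ d : ℕ, d₀ ≤ d → ∀ p : ℕ, 0 < p →
      IsZero (TopCat.Presheaf.stalk
        ((Coh.RpushAb f p).obj (Coh.toAb (CohB1.tensorMod M (CohB1.tensorPow L d)))).obj y) := by
  obtain ⟨V, hyV, hV⟩ := exists_nhd f hL y hy
  obtain ⟨U, hU, hyU, hUV⟩ := exists_isAffineOpen_mem_and_subset (X := Y) (x := y) (U := V) hyV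
  haveI : IsNoetherianRing Γ(Y, U) := IsLocallyNoetherian.component_noetherian ⟨U, hU⟩
  obtain ⟨n₀, h₀⟩ := CohFinite.vanish_ample (R := Γ(Y, U)) ((f ∣_ U) ≫ hU.isoSpec.hom)
    (hV U hUV hU) (M := M.restrict (f ⁻¹ᵁ U).ι) ⟨QC.isQCoh_restrict _ hM.1, QC.isFT_restrict _ hM.2⟩
  refine ⟨n₀, fun n hn p hp => ?_⟩
  obtain ⟨q, rfl⟩ : ∃ q, p = q + 1 := ⟨p - 1, by omega⟩
  haveI : Coh.IsQCoh M := hM.1
  refine isZero_stalk_rpushAb f _ (TMul.isQCoh_tensor (TMul.isInvertible_tensorPow hL n)) (q + 1) hU hyU ?_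
  obtain ⟨a⟩ := TMul.nonempty_restrictPowIso (f ⁻¹ᵁ U).ι L n
  obtain ⟨b⟩ := TMul.nonempty_restrictTensorIso (f ⁻¹ᵁ U).ι M (CohB1.tensorPow L n)
  obtain ⟨c⟩ := CohQC.hu_restrict (CohB1.tensorMod M (CohB1.tensorPow L n)) (f ⁻¹ᵁ U) (q + 1)
  haveI := CohQC.hh_subsingleton_of_iso
    (PicGrp.tensorModIso (Iso.refl (M.restrict (f ⁻¹ᵁ U).ι)) a ≪≫ b) (q + 1) (h₀ n hn q)
  exact c.toEquiv.subsingleton

end Groth.Agent.AmpleNear
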